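/-
Generated orbit certificate: suborbits on octads through two points.
-/
import Cfsg.Agent.Lib.Golay.StepCert

set_option autoImplicit false
set_option maxRecDepth 1000000

namespace Cfsg.Agent.Lib.Golay.Steps.HexadSuborbit

open Cfsg.Agent.Lib.Orbit
open Cfsg.Agent.Lib.Golay.StepCert

def gens : List (List ℕ) :=
  [[0, 1, 10, 3, 2, 13, 20, 12, 15, 14, 7, 22, 4, 17, 23, 5, 18, 8, 19, 11, 9, 21, 16, 6],
   [0, 1, 3, 7, 2, 18, 14, 10, 17, 21, 4, 11, 12, 19, 23, 6, 15, 9, 13, 20, 5, 22, 8, 16],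
   [0, 1, 10, 4, 2, 17, 11, 12, 19, 16, 3, 8, 7, 23, 13, 22, 15, 5, 18, 6, 14, 21, 9, 20]]

def tree1_0 : OrbTree ℕ :=
  [(0, 0, 9465987), (0, 0, 8524371), (0, 0, 1065303), (0, 1, 8536111), (0, 0, 8398155),
   (2, 2, 551943), (0, 1, 9963547), (3, 1, 2183687), (0, 1, 14716939), (1, 2, 2204803),
   (0, 0, 2494627), (3, 2, 1116327), (0, 0, 4470275), (0, 0, 737427), (1, 1, 2634003),
   (2, 1, 298027), (1, 2, 185603), (3, 1, 8983587), (0, 0, 272595), (0, 2, 8657159),
   (2, 1, 1413139), (0, 2, 4505735), (2, 2, 1212619), (0, 0, 1053483), (4, 1, 10765331),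
   (0, 0, 11010247), (0, 0, 3152963), (0, 0, 7340691), (0, 1, 6292775), (2, 2, 2115979),
   (2, 1, 5325835), (0, 0, 8716939), (1, 2, 57883), (3, 1, 12656663), (0, 0, 459847),
   (0, 0, 1836419), (2, 1, 622863), (0, 2, 4752467), (0, 2, 4196943), (3, 2, 9471495),
   (0, 1, 2162811), (0, 2, 2263063), (4, 2, 3416079), (0, 0, 2754059), (1, 1, 4726955),
   (3, 2, 210955), (0, 0, 4587803), (0, 1, 140167), (1, 2, 786999), (2, 1, 563843),
   (0, 0, 4216883), (1, 2, 4264387), (2, 2, 8421811), (0, 0, 45159), (0, 0, 1188915),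
   (1, 1, 806987), (1, 2, 12717187), (2, 2, 5902343), (0, 0, 69395)]

def tree2_0 : OrbTree ℕ :=
  [(0, 0, 9347075), (0, 0, 657763), (0, 0, 5286147), (0, 0, 4424227), (0, 1, 2392899),
   (2, 2, 13124355), (0, 1, 11731203), (3, 1, 1460739), (0, 1, 10496547), (0, 1, 7145475),
   (4, 1, 1647171), (0, 1, 3719203), (0, 2, 6447171), (2, 2, 8505411), (2, 2, 13893731)]

/-- The step. -/
def step : Step where
  pre := [1, 2, 5279]
  gens := gens
  orbits := [(5279, List.flatten []),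
    (18147, List.flatten [tree1_0]),
    (352547, List.flatten [tree2_0])]
  cands := codeCands 8 fun m => m.testBit 0 && m.testBit 1

theorem step_ok : step.ok = true := by decide +kernel

theorem step_roots : step.orbits.map Prod.fst = [5279, 18147, 352547] := rfl

end Cfsg.Agent.Lib.Golay.Steps.HexadSuborbit
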