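/-
Generated orbit certificate: two point stabiliser on octads through both.
-/
import Cfsg.Agent.Lib.Golay.StepCert

set_option autoImplicit false
set_option maxRecDepth 1000000

namespace Cfsg.Agent.Lib.Golay.Steps.OctadBoth

open Cfsg.Agent.Lib.Orbit
open Cfsg.Agent.Lib.Golay.StepCert

def gens : List (List ℕ) :=
  [[0, 1, 11, 7, 22, 16, 6, 10, 3, 18, 17, 4, 23, 15, 2, 14, 8, 5, 19, 21, 9, 12, 13, 20],
   [0, 1, 17, 2, 16, 20, 5, 6, 9, 23, 18, 3, 10, 4, 22, 13, 7, 12, 21, 8, 15, 11, 14, 19],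
   [0, 1, 20, 10, 14, 21, 23, 3, 7, 15, 22, 2, 16, 17, 12, 8, 18, 6, 5, 19, 13, 4, 9, 11]]

def tree0_0 : OrbTree ℕ :=
  [(0, 0, 12717187), (0, 0, 1188915), (0, 0, 4424227), (0, 0, 352547), (0, 0, 622863),
   (2, 1, 9465987), (1, 2, 2392899), (2, 1, 1413139), (0, 0, 13124355), (0, 2, 563843),
   (2, 1, 2204803), (0, 0, 185603), (3, 2, 6447171), (0, 0, 45159), (1, 1, 4216883),
   (3, 1, 806987), (0, 0, 11010247), (0, 2, 9963547), (2, 1, 6292775), (0, 0, 210955),
   (1, 1, 1460739), (0, 0, 786999), (1, 1, 14716939), (2, 2, 7340691), (0, 2, 57883),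
   (3, 2, 8983587), (0, 0, 11731203), (1, 1, 1836419), (0, 0, 2754059), (1, 2, 4726955),
   (2, 2, 7145475), (0, 1, 2115979), (4, 2, 4196943), (0, 0, 272595), (0, 0, 4752467),
   (2, 1, 8536111), (0, 0, 1116327), (0, 0, 69395), (2, 1, 5902343), (2, 2, 9471495),
   (0, 2, 5286147), (4, 1, 459847), (0, 0, 657763), (0, 0, 2162811), (0, 0, 4264387),
   (2, 1, 1053483), (0, 0, 8716939), (3, 1, 2494627), (0, 1, 3152963), (0, 2, 12656663),
   (3, 2, 13893731), (0, 0, 1647171), (0, 1, 8421811), (2, 1, 3719203), (0, 0, 2183687),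
   (0, 0, 8657159), (2, 2, 2634003), (2, 2, 10496547), (0, 2, 2263063), (0, 2, 1065303),
   (5, 2, 5325835), (0, 0, 140167), (0, 0, 298027), (0, 0, 737427), (1, 1, 3416079),
   (2, 1, 8524371), (0, 2, 8505411), (2, 2, 1212619), (0, 0, 18147), (1, 2, 8398155),
   (3, 1, 4505735), (0, 0, 551943), (0, 1, 4587803), (3, 2, 4470275), (0, 0, 9347075),
   (1, 1, 10765331)]

/-- The step. -/
def step : Step where
  pre := [1, 2]
  gens := gens
  orbits := [(5279, List.flatten [tree0_0])]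
  cands := codeCands 8 fun m => m.testBit 0 && m.testBit 1

theorem step_ok : step.ok = true := by decide +kernel

theorem step_roots : step.orbits.map Prod.fst = [5279] := rfl

end Cfsg.Agent.Lib.Golay.Steps.OctadBoth
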