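/-
Generated orbit certificate: two point stabiliser on octads through the first point only.
-/
import Cfsg.Agent.Lib.Golay.StepCert

set_option autoImplicit false
set_option maxRecDepth 1000000

namespace Cfsg.Agent.Lib.Golay.Steps.OctadFirst

open Cfsg.Agent.Lib.Orbit
open Cfsg.Agent.Lib.Golay.StepCert

def gens : List (List ℕ) :=
  [[0, 1, 19, 7, 8, 23, 5, 18, 11, 22, 20, 13, 10, 16, 6, 12, 15, 21, 14, 9, 17, 4, 3, 2],
   [0, 1, 18, 20, 21, 10, 11, 13, 16, 14, 2, 9, 3, 5, 19, 15, 12, 8, 23, 4, 22, 6, 17, 7],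
   [0, 1, 15, 16, 11, 22, 18, 6, 3, 20, 23, 4, 14, 7, 5, 2, 19, 17, 13, 8, 10, 21, 12, 9]]

def tree0_0 : OrbTree ℕ :=
  [(0, 0, 9776129), (0, 0, 1302533), (0, 0, 2854977), (0, 0, 2135601), (0, 0, 13636881),
   (1, 1, 2147405), (0, 1, 1869893), (2, 2, 15747077), (2, 1, 39257), (0, 1, 3246601),
   (0, 2, 3736597), (3, 2, 3031301), (0, 0, 2640465), (3, 1, 5017889), (0, 1, 8619033),
   (0, 0, 3182981), (0, 0, 924689), (2, 2, 9112069), (0, 0, 6857221), (1, 1, 283537),
   (3, 2, 4223245), (0, 0, 593097), (0, 1, 1063445), (2, 1, 2031657), (0, 0, 10666625),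
   (1, 2, 4924673), (4, 2, 689317), (0, 0, 12325377), (0, 0, 4343317), (0, 0, 7864649),
   (2, 2, 3172097), (0, 0, 5441617), (3, 1, 304405), (0, 0, 1661185), (0, 2, 542009),
   (2, 1, 10846245), (0, 0, 8966165), (2, 2, 8431757), (0, 2, 99029), (3, 2, 12747077),
   (0, 0, 2627629), (1, 1, 493953), (0, 0, 2422785), (5, 1, 12587685), (0, 0, 13370381),
   (0, 0, 1589901), (0, 0, 5112513), (0, 2, 1454401), (2, 2, 1148257), (2, 1, 9830549),
   (0, 1, 14950785), (1, 2, 175681), (0, 0, 7417889), (3, 2, 8499969), (0, 0, 4299781),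
   (3, 1, 418953), (0, 0, 3489985), (0, 0, 442481), (0, 1, 11046145), (2, 1, 13121601),
   (0, 1, 133817), (3, 1, 9969957), (0, 1, 4523185), (1, 2, 4229001), (2, 2, 8593633),
   (2, 2, 5296705), (0, 0, 4330601), (0, 0, 11535529), (1, 1, 1182989), (2, 1, 4900873),
   (0, 0, 2110153), (0, 1, 1075305), (2, 1, 1737489), (1, 2, 201013), (4, 2, 8922769),
   (0, 0, 5571333), (0, 1, 13062145), (0, 1, 9048457), (0, 0, 2363013), (1, 1, 1122713),
   (2, 2, 684577), (2, 2, 1618953), (0, 0, 1250945), (1, 1, 5275709), (1, 2, 8471941),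
   (0, 2, 8946281), (4, 1, 2121909), (0, 0, 9240913), (0, 0, 52005), (1, 1, 10557585),
   (1, 2, 797449), (2, 1, 2892897), (0, 1, 8391797), (0, 2, 12880401), (3, 2, 6326497),
   (0, 0, 8663097), (1, 2, 6557781), (3, 2, 9440193), (0, 0, 4597797), (0, 0, 11100169),
   (0, 2, 2687905), (3, 1, 4287105), (0, 2, 1577201), (2, 2, 1312345), (0, 0, 5390753),
   (5, 1, 75309), (0, 0, 14254209), (0, 0, 430605), (0, 0, 6837377), (0, 1, 663645),
   (2, 1, 9748745), (2, 1, 4370577), (0, 0, 2430217), (0, 0, 1100945), (2, 1, 2269481),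
   (0, 2, 6488205), (2, 2, 153797), (2, 2, 530245), (0, 0, 5770785), (0, 0, 13771273)]

def tree0_1 : OrbTree ℕ :=
  [(2, 1, 346141), (0, 0, 582081), (1, 2, 632881), (4, 1, 1332261), (0, 0, 10110017),
   (0, 0, 3277413), (0, 1, 4476225), (1, 2, 7767041), (0, 0, 3297305), (3, 1, 4721045),
   (1, 2, 8783649), (2, 2, 12641313), (0, 0, 9506893), (0, 2, 902657), (5, 2, 12599513),
   (0, 0, 262637), (0, 0, 9193633), (0, 0, 8675909), (0, 0, 4800613), (1, 2, 1352353),
   (3, 2, 4563017), (0, 0, 118953), (0, 0, 8688833), (2, 1, 9607201), (0, 0, 10630149),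
   (2, 2, 864389), (3, 1, 3811457), (0, 0, 2564625), (0, 0, 6406417), (1, 1, 10506593),
   (0, 2, 6570537), (3, 1, 4203377), (0, 0, 12650793), (0, 2, 4788761), (2, 1, 2313249),
   (0, 0, 11575377), (2, 2, 5511305), (0, 2, 95313), (3, 2, 2229713), (0, 0, 3410225),
   (0, 0, 8546577), (1, 1, 14747201), (1, 2, 6302745), (2, 1, 2173253), (0, 2, 2916505),
   (2, 2, 10881097), (3, 2, 334433), (0, 1, 8412681), (0, 0, 5252293), (1, 2, 9519665),
   (2, 2, 6053905), (0, 0, 213833), (1, 1, 15335473), (0, 0, 10486557), (1, 2, 6429441)]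

/-- The step. -/
def step : Step where
  pre := [1, 2]
  gens := gens
  orbits := [(15777, List.flatten [tree0_0, tree0_1])]
  cands := codeCands 8 fun m => m.testBit 0 && !m.testBit 1

theorem step_ok : step.ok = true := by decide +kernel

theorem step_roots : step.orbits.map Prod.fst = [15777] := rfl

end Cfsg.Agent.Lib.Golay.Steps.OctadFirst
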