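/-
Generated orbit certificate: suborbits on pairs.
-/
import Cfsg.Agent.Lib.Golay.StepCert

set_option autoImplicit false
set_option maxRecDepth 1000000

namespace Cfsg.Agent.Lib.Golay.Steps.PairSuborbit

open Cfsg.Agent.Lib.Orbit
open Cfsg.Agent.Lib.Golay.StepCert

def gens : List (List ℕ) :=
  [[0, 1, 3, 2, 17, 11, 15, 23, 7, 16, 14, 19, 5, 18, 6, 10, 4, 9, 13, 12, 20, 21, 8, 22],
   [0, 1, 2, 3, 14, 10, 16, 5, 9, 19, 23, 8, 17, 18, 12, 6, 22, 4, 13, 11, 21, 20, 15, 7],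
   [0, 1, 2, 3, 21, 16, 4, 18, 11, 12, 20, 10, 13, 23, 15, 22, 6, 8, 14, 9, 17, 5, 7, 19]]

def tree0_0 : OrbTree ℕ :=
  [(0, 0, 131080), (0, 0, 516), (0, 0, 65544), (0, 1, 4194312), (0, 2, 136),
   (3, 1, 524292), (0, 0, 4104), (0, 2, 8200), (2, 1, 2052), (3, 1, 24),
   (0, 0, 131076), (0, 2, 260), (2, 1, 16392), (0, 2, 32776), (3, 2, 264),
   (0, 0, 132), (0, 0, 8388616), (1, 2, 262148), (2, 1, 520), (0, 1, 524296),
   (2, 2, 2056), (3, 1, 16388), (0, 0, 72), (1, 1, 4100), (0, 0, 40),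
   (1, 2, 8196), (0, 0, 262152), (1, 2, 8388612), (3, 2, 32772), (0, 0, 1032),
   (1, 1, 68), (1, 2, 4194308), (3, 2, 2097156), (0, 0, 2097160), (0, 1, 1048584),
   (2, 1, 1048580), (1, 2, 36), (0, 1, 1028), (1, 2, 65540)]

def tree1_0 : OrbTree ℕ :=
  [(0, 0, 133120), (0, 0, 524800), (0, 0, 69632), (0, 2, 8256), (0, 1, 327680),
   (0, 0, 8208), (2, 2, 8388624), (3, 1, 526336), (0, 0, 528384), (0, 2, 8704),
   (0, 1, 786432), (3, 1, 2304), (0, 2, 3072), (0, 0, 540672), (1, 1, 8388864),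
   (3, 2, 1536), (0, 0, 81920), (0, 1, 4198400), (2, 1, 8912896), (1, 2, 1052672),
   (3, 2, 4608), (0, 0, 65568), (0, 0, 2064), (2, 1, 655360), (1, 2, 12288),
   (0, 0, 262176), (0, 0, 10240), (2, 1, 393216), (1, 2, 8396800), (0, 0, 4456448),
   (1, 1, 262272), (5, 1, 272), (0, 0, 131200), (0, 2, 262400), (0, 0, 8320),
   (0, 0, 8650752), (2, 2, 18432), (0, 0, 524352), (1, 1, 4352), (4, 1, 16896),
   (0, 0, 65600), (0, 2, 80), (2, 2, 36864), (0, 1, 131136), (0, 0, 33280),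
   (2, 2, 4202496), (3, 2, 2099200), (0, 0, 2621440), (0, 2, 544), (2, 2, 1056),
   (0, 1, 8389632), (4, 2, 1280), (0, 0, 16512), (0, 0, 8388672), (0, 0, 4227072),
   (0, 2, 4194432), (2, 2, 524304), (0, 0, 135168), (3, 1, 4128), (0, 0, 2080),
   (1, 2, 73728), (0, 0, 262160), (3, 2, 294912), (0, 0, 9216), (0, 0, 278528),
   (4, 1, 8389120), (0, 0, 4259840), (0, 2, 192), (2, 1, 524416), (0, 2, 262656),
   (3, 2, 1050624), (0, 0, 1572864), (0, 2, 131584), (2, 1, 2097408), (0, 0, 2097280),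
   (1, 1, 1049088), (2, 2, 132096), (4, 1, 17408), (0, 0, 16448), (0, 0, 32832),
   (0, 0, 33792), (1, 2, 4194320), (0, 0, 131328), (0, 0, 640), (1, 1, 528),
   (2, 1, 49152), (0, 0, 1088), (1, 1, 4160), (4, 2, 32784), (0, 2, 6291456),
   (0, 2, 160), (4, 1, 8392704), (0, 0, 4194336), (0, 2, 65664), (0, 2, 262208),
   (0, 0, 40960), (4, 2, 532480), (0, 0, 266240), (0, 0, 8224), (0, 1, 263168),
   (1, 2, 8454144), (2, 1, 139264), (1, 2, 24576), (2, 1, 264192), (0, 1, 8448),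
   (4, 2, 1081344), (0, 0, 1049600), (0, 1, 10485760), (0, 2, 524320), (2, 2, 1179648),
   (2, 1, 2097216), (0, 1, 1114112), (2, 2, 4325376), (0, 0, 768), (0, 2, 6144),
   (2, 2, 384), (0, 0, 8388736), (5, 2, 2162688), (0, 0, 2097168), (0, 0, 2228224)]

def tree1_1 : OrbTree ℕ :=
  [(0, 0, 2097664), (1, 1, 1048592), (0, 1, 2113536), (0, 2, 32800), (3, 2, 288),
   (0, 0, 2176), (1, 2, 67584), (3, 1, 1064960), (0, 0, 1048640), (1, 1, 2101248),
   (1, 2, 163840), (0, 2, 4194560), (3, 2, 2097184), (2, 1, 5242880), (0, 0, 1048832),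
   (0, 0, 1048704), (0, 0, 9437184), (3, 1, 2129920), (0, 0, 2098176), (0, 2, 1048608),
   (0, 2, 196608), (5, 2, 96), (0, 0, 34816), (0, 0, 525312), (0, 0, 20480),
   (1, 1, 8390656), (0, 0, 4718592), (3, 1, 320), (0, 0, 32896), (1, 1, 66048),
   (2, 2, 4195328), (0, 0, 16640), (1, 1, 8421376), (3, 1, 66560), (0, 0, 16400),
   (1, 1, 12582912), (2, 2, 65552), (0, 0, 131088), (1, 1, 4210688)]

def tree2_0 : OrbTree ℕ :=
  [(0, 0, 8519680), (0, 0, 4194816), (0, 0, 65792), (1, 1, 557056), (1, 2, 4224),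
   (0, 1, 131104), (1, 2, 270336), (3, 2, 524544), (0, 1, 2560), (0, 0, 589824),
   (0, 0, 4112), (1, 2, 576), (5, 1, 16416), (0, 0, 2112), (0, 2, 1040),
   (0, 0, 147456), (1, 1, 8404992), (1, 2, 3145728), (3, 1, 5120), (1, 2, 98304),
   (0, 1, 4194368), (0, 0, 33024), (4, 2, 2359296), (0, 0, 2105344), (0, 1, 1310720),
   (1, 2, 8388640), (0, 0, 4196352), (1, 1, 1152), (3, 1, 1056768)]

/-- The step. -/
def step : Step where
  pre := [1, 2, 12]
  gens := gens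
  orbits := [(20, List.flatten [tree0_0]),
    (48, List.flatten [tree1_0, tree1_1]),
    (144, List.flatten [tree2_0])]
  cands := pairMasks fun m => m &&& 3 == 0 && m != 12

theorem step_ok : step.ok = true := by decide +kernel

theorem step_roots : step.orbits.map Prod.fst = [20, 48, 144] := rfl

end Cfsg.Agent.Lib.Golay.Steps.PairSuborbit
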